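import Groth.Agent.FittX.Crit
import Groth.Agent.FittX.Ideal
import Mathlib.RingTheory.Kaehler.Polynomial
import Mathlib.RingTheory.Kaehler.Basic
import Mathlib.RingTheory.Ideal.Quotient.Operations

/-!
# The Kähler different of a square presentation

For `B = A[x_1, …, x_n]/(f_1, …, f_n)` the zeroth Fitting ideal of `Ω_{B/A}` is generated by the Jacobian determinant.
-/

set_option autoImplicit false

open TensorProduct MvPolynomial

namespace Groth.Agent.DiscLib

universe u

theorem det_submatrix_mem {R : Type u} [CommRing R] {n : ℕ} (M : Matrix (Fin n) (Fin n) R) (σ τ : Fin n → Fin n) :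
    (M.submatrix σ τ).det ∈ Ideal.span {M.det} := by
  classical
  by_cases hσ : Function.Injective σ
  · by_cases hτ : Function.Injective τ
    · let σ' := Equiv.ofBijective σ (Finite.injective_iff_bijective.1 hσ)
      let τ' := Equiv.ofBijective τ (Finite.injective_iff_bijective.1 hτ)
      rw [show (M.submatrix σ τ) = ((M.submatrix σ' id).submatrix id τ') from rfl, Matrix.det_permute',
        Matrix.det_permute]
      exact Ideal.mul_mem_left _ _ (Ideal.mul_mem_left _ _ (Ideal.mem_span_singleton_self _))
    · obtain ⟨a, b, hab, hne⟩ := Function.not_injective_iff.1 hτ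
      rw [Matrix.det_zero_of_column_eq (M := M.submatrix σ τ) hne fun i => congrArg (M (σ i)) hab]
      exact zero_mem _
  · obtain ⟨a, b, hab, hne⟩ := Function.not_injective_iff.1 hσ
    rw [Matrix.det_zero_of_row_eq (M := M.submatrix σ τ) hne (funext fun i => congrArg (fun c => M c (τ i)) hab)]
    exact zero_mem _

theorem minors_span_rows {R : Type u} [CommRing R] {n : ℕ} (M : Matrix (Fin n) (Fin n) R) :
    FittX.minors n (Submodule.span R (Set.range fun i => M i)) = Ideal.span {M.det} := by
  refine le_antisymm ?_ ?_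
  · refine FittX.minors_le_of_span (FittX.span_proj n) fun φ hφ z hz => ?_
    choose e he using hφ
    choose r hr using hz
    rw [show φ = fun a => (LinearMap.proj (e a) : Module.Dual R (Fin n → R)) from funext fun a => (he a).symm,
      show z = fun b => M (r b) from funext fun b => (hr b).symm]
    exact det_submatrix_mem M r e
  · rw [Ideal.span_singleton_le_iff_mem]
    exact FittX.minor_mem (fun a => (LinearMap.proj a : Module.Dual R (Fin n → R)))
      (z := fun b => M b) fun b => Submodule.subset_span ⟨b, rfl⟩

variable (A : Type u) [CommRing A] {n : ℕ} (f : Fin n → MvPolynomial (Fin n) A)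

/-- The Jacobian matrix in the quotient. -/
noncomputable def jacobianMat : Matrix (Fin n) (Fin n) (MvPolynomial (Fin n) A ⧸ Ideal.span (Set.range f)) :=
  Matrix.of fun i j => Ideal.Quotient.mk _ (pderiv j (f i))

theorem det_jacobianMat : (jacobianMat A f).det =
    Ideal.Quotient.mk (Ideal.span (Set.range f)) (Matrix.of fun i j => pderiv j (f i)).det := by
  rw [RingHom.map_det]
  rfl

theorem fittingIdeal_kaehler_eq : Fitt.ideal (MvPolynomial (Fin n) A ⧸ Ideal.span (Set.range f))
    (KaehlerDifferential A (MvPolynomial (Fin n) A ⧸ Ideal.span (Set.range f))) 0 =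
    Ideal.span {(jacobianMat A f).det} := by
  classical
  have hsurj : Function.Surjective (algebraMap (MvPolynomial (Fin n) A) (MvPolynomial (Fin n) A ⧸ Ideal.span (Set.range f))) := Ideal.Quotient.mk_surjective
  let b : Module.Basis (Fin n) (MvPolynomial (Fin n) A ⧸ Ideal.span (Set.range f)) ((MvPolynomial (Fin n) A ⧸ Ideal.span (Set.range f)) ⊗[(MvPolynomial (Fin n) A)] KaehlerDifferential A (MvPolynomial (Fin n) A)) :=
    (KaehlerDifferential.mvPolynomialBasis A (Fin n)).baseChange (MvPolynomial (Fin n) A ⧸ Ideal.span (Set.range f))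
  let g := KaehlerDifferential.mapBaseChange A (MvPolynomial (Fin n) A) (MvPolynomial (Fin n) A ⧸ Ideal.span (Set.range f))
  let x : Fin n → KaehlerDifferential A (MvPolynomial (Fin n) A ⧸ Ideal.span (Set.range f)) := fun i => g (b i)
  have hx : Submodule.span (MvPolynomial (Fin n) A ⧸ Ideal.span (Set.range f)) (Set.range x) = ⊤ := by
    rw [show Set.range x = g '' Set.range b from (Set.range_comp g b), ← Submodule.map_span, b.span_eq,
      Submodule.map_top, LinearMap.range_eq_top]
    exact KaehlerDifferential.mapBaseChange_surjective A (MvPolynomial (Fin n) A) (MvPolynomial (Fin n) A ⧸ Ideal.span (Set.range f)) hsurj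
  have hrep : ∀ p : (MvPolynomial (Fin n) A), b.equivFun ((1 : (MvPolynomial (Fin n) A ⧸ Ideal.span (Set.range f))) ⊗ₜ[(MvPolynomial (Fin n) A)] KaehlerDifferential.D A (MvPolynomial (Fin n) A) p) =
      fun j => Ideal.Quotient.mk _ (pderiv j p) := fun p => by
    funext j
    rw [Module.Basis.equivFun_apply, Module.Basis.baseChange_repr_tmul, Algebra.smul_def, mul_one,
      KaehlerDifferential.mvPolynomialBasis_repr_apply]
    rfl
  have hker : LinearMap.ker g = Submodule.span (MvPolynomial (Fin n) A ⧸ Ideal.span (Set.range f))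
      (Set.range fun i => (1 : (MvPolynomial (Fin n) A ⧸ Ideal.span (Set.range f))) ⊗ₜ[(MvPolynomial (Fin n) A)] KaehlerDifferential.D A (MvPolynomial (Fin n) A) (f i)) := by
    apply le_antisymm
    · intro t ht
      obtain ⟨c, rfl⟩ := (KaehlerDifferential.exact_kerCotangentToTensor_mapBaseChange A (MvPolynomial (Fin n) A) (MvPolynomial (Fin n) A ⧸ Ideal.span (Set.range f)) hsurj t).1 ht
      obtain ⟨⟨p, hp⟩, rfl⟩ := Ideal.toCotangent_surjective _ c
      rw [KaehlerDifferential.kerCotangentToTensor_toCotangent]
      have hp' : p ∈ Ideal.span (Set.range f) := Ideal.Quotient.eq_zero_iff_mem.1 hp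
      refine Submodule.span_induction (p := fun q _ => ∀ e : (MvPolynomial (Fin n) A), (1 : (MvPolynomial (Fin n) A ⧸ Ideal.span (Set.range f))) ⊗ₜ[(MvPolynomial (Fin n) A)] KaehlerDifferential.D A (MvPolynomial (Fin n) A) (e * q) ∈
        Submodule.span (MvPolynomial (Fin n) A ⧸ Ideal.span (Set.range f)) (Set.range fun i => (1 : (MvPolynomial (Fin n) A ⧸ Ideal.span (Set.range f))) ⊗ₜ[(MvPolynomial (Fin n) A)] KaehlerDifferential.D A (MvPolynomial (Fin n) A) (f i))) ?_ ?_ ?_ ?_ hp' 1
        |> fun h => by simpa using h
      · rintro _ ⟨i, rfl⟩ e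
        rw [Derivation.leibniz, TensorProduct.tmul_add, TensorProduct.tmul_smul, TensorProduct.tmul_smul]
        refine Submodule.add_mem _ (Submodule.smul_of_tower_mem _ _ (Submodule.subset_span ⟨i, rfl⟩)) ?_
        rw [TensorProduct.smul_tmul', show f i • (1 : (MvPolynomial (Fin n) A ⧸ Ideal.span (Set.range f))) = 0 from ?_, TensorProduct.zero_tmul]
        · exact Submodule.zero_mem _
        · show Ideal.Quotient.mk (Ideal.span (Set.range f)) (f i * 1) = 0
          rw [mul_one]
          exact Ideal.Quotient.eq_zero_iff_mem.2 (Ideal.subset_span ⟨i, rfl⟩)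
      · intro e; simp
      · intro q q' _ _ hq hq' e
        rw [mul_add, map_add, TensorProduct.tmul_add]
        exact Submodule.add_mem _ (hq e) (hq' e)
      · intro c q _ hq e
        rw [smul_eq_mul, ← mul_assoc]
        exact hq _
    · rw [Submodule.span_le]
      rintro _ ⟨i, rfl⟩
      show g _ = 0
      rw [KaehlerDifferential.mapBaseChange_tmul, KaehlerDifferential.map_D,
        show algebraMap (MvPolynomial (Fin n) A) (MvPolynomial (Fin n) A ⧸ Ideal.span (Set.range f)) (f i) = 0 from Ideal.Quotient.eq_zero_iff_mem.2 (Ideal.subset_span ⟨i, rfl⟩),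
        map_zero, smul_zero]
  have hrel : FittX.rel (R := (MvPolynomial (Fin n) A ⧸ Ideal.span (Set.range f))) x = Submodule.span (MvPolynomial (Fin n) A ⧸ Ideal.span (Set.range f)) (Set.range fun i => jacobianMat A f i) := by
    have h1 : Fintype.linearCombination (MvPolynomial (Fin n) A ⧸ Ideal.span (Set.range f)) x = g ∘ₗ b.equivFun.symm.toLinearMap := by
      refine LinearMap.ext fun z => ?_
      simp [x, Fintype.linearCombination_apply, Module.Basis.equivFun_symm_apply]
    rw [FittX.rel, h1, LinearMap.ker_comp, hker, ← Submodule.map_equiv_eq_comap_symm, Submodule.map_span,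
      ← Set.range_comp]
    congr 2
    funext i
    exact hrep (f i)
  rw [FittX.ideal_eq_minors x hx 0, hrel]
  exact minors_span_rows _

end Groth.Agent.DiscLib
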