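import Groth.Prelude.Def_Disc
import Groth.Prelude.Def_RegImm
import Groth.Agent.S2235
import Groth.Agent.S9147
import Groth.Agent.S9254
import Groth.Agent.Synt29.KoszulSyntomic
import Mathlib.RingTheory.TensorProduct.MvPolynomial
import Mathlib.RingTheory.QuasiFinite.Basic
import Mathlib.RingTheory.HopkinsLevitzki

/-!
# The Noether different of a quasi-finite square presentation

Tate's computation: for `B = A[x_1, …, x_n]/(f_1, …, f_n)` quasi-finite over `A` the Noether different is generated by
the Jacobian determinant.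
-/

set_option autoImplicit false
set_option maxSynthPendingDepth 3

open TensorProduct MvPolynomial

namespace Groth.Agent.DiscLib

universe u

variable {A : Type u} [CommRing A] {n : ℕ} (f : Fin n → MvPolynomial (Fin n) A)

/-- A quasi-finite square presentation is a relative global complete intersection. -/
theorem isRelGCI_of_quasiFinite
    [Algebra.QuasiFinite A (MvPolynomial (Fin n) A ⧸ Ideal.span (Set.range f))] :
    Synt.IsRelGCI A n n f := by
  intro p hp
  haveI := hp
  haveI : Module.Finite p.asIdeal.ResidueField (p.asIdeal.Fiber (Synt.RelGCIRing A n n f)) :=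
    Algebra.QuasiFinite.finite_fiber (R := A) p.asIdeal
  haveI : IsArtinianRing (p.asIdeal.Fiber (Synt.RelGCIRing A n n f)) :=
    IsArtinianRing.of_finite p.asIdeal.ResidueField _
  refine ⟨le_rfl, ?_⟩
  rw [Nat.sub_self]
  have hle : Ring.KrullDimLE 0 (p.asIdeal.Fiber (Synt.RelGCIRing A n n f)) := inferInstance
  rw [Ring.krullDimLE_iff] at hle
  exact le_antisymm hle ringKrullDim_nonneg_of_nontrivial

/-- The ring `B`. -/
local notation "B'" => MvPolynomial (Fin n) A ⧸ Ideal.span (Set.range f)

/-- The elements `x_i ⊗ 1 - 1 ⊗ x_i`. -/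
noncomputable def diagGen (i : Fin n) : MvPolynomial (Fin n) A ⊗[A] B' :=
  X i ⊗ₜ[A] (1 : B') - (1 : MvPolynomial (Fin n) A) ⊗ₜ[A] Ideal.Quotient.mk _ (X i)

/-- Multiplication `A[x] ⊗ B → B`. -/
noncomputable def diagMul : MvPolynomial (Fin n) A ⊗[A] B' →ₐ[A] B' :=
  Algebra.TensorProduct.productMap (Ideal.Quotient.mkₐ A _) (AlgHom.id A _)

theorem diagMul_tmul (e : MvPolynomial (Fin n) A) (b : B') :
    diagMul f (e ⊗ₜ[A] b) = Ideal.Quotient.mk _ e * b :=
  Algebra.TensorProduct.productMap_apply_tmul _ _ _ _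

theorem exists_divided_differences (e : MvPolynomial (Fin n) A) :
    ∃ c : Fin n → MvPolynomial (Fin n) A ⊗[A] B',
      e ⊗ₜ[A] (1 : B') - (1 : MvPolynomial (Fin n) A) ⊗ₜ[A] Ideal.Quotient.mk _ e = ∑ j, c j * diagGen f j ∧
      ∀ j, diagMul f (c j) = Ideal.Quotient.mk _ (pderiv j e) := by
  classical
  induction e using MvPolynomial.induction_on with
  | C a =>
    refine ⟨0, ?_, fun j => by simp⟩
    rw [show (C a : MvPolynomial (Fin n) A) = a • 1 by rw [smul_eq_C_mul, mul_one],
      show Ideal.Quotient.mk (Ideal.span (Set.range f)) (a • 1) = a • (1 : B') from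
        map_smul (Ideal.Quotient.mkₐ A _) a 1, TensorProduct.smul_tmul]
    simp
  | add p q hp hq =>
    obtain ⟨c, hc, hc'⟩ := hp
    obtain ⟨d, hd, hd'⟩ := hq
    refine ⟨c + d, ?_, fun j => by simp [hc', hd']⟩
    rw [map_add, TensorProduct.add_tmul, TensorProduct.tmul_add, add_sub_add_comm, hc, hd, ← Finset.sum_add_distrib]
    exact Finset.sum_congr rfl fun j _ => (add_mul _ _ _).symm
  | mul_X p i hp =>
    obtain ⟨c, hc, hc'⟩ := hp
    refine ⟨fun j => c j * (X i ⊗ₜ[A] (1 : B')) +
      if j = i then (1 : MvPolynomial (Fin n) A) ⊗ₜ[A] Ideal.Quotient.mk _ p else 0, ?_, fun j => ?_⟩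
    · simp only [add_mul, Finset.sum_add_distrib, ite_mul, zero_mul, Finset.sum_ite_eq', Finset.mem_univ, if_true,
        mul_right_comm _ (X i ⊗ₜ[A] (1 : B')), ← Finset.sum_mul, ← hc]
      simp only [diagGen, sub_mul, mul_sub, Algebra.TensorProduct.tmul_mul_tmul, one_mul, mul_one, map_mul]
      abel
    · rw [map_add, map_mul, hc', diagMul_tmul, pderiv_mul, map_add, map_mul, map_mul, mul_one]
      rcases eq_or_ne j i with rfl | hne
      · simp [diagMul_tmul]
      · simp [hne, pderiv_X_of_ne (Ne.symm hne)]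

theorem span_diagGen_eq_ker :
    Ideal.span (Set.range (diagGen f)) = RingHom.ker (diagMul f) := by
  refine le_antisymm (Ideal.span_le.2 ?_) fun t ht => ?_
  · rintro _ ⟨i, rfl⟩
    show diagMul f (diagGen f i) = 0
    simp [diagGen, diagMul_tmul]
  · have h : ∀ t, t - (1 : MvPolynomial (Fin n) A) ⊗ₜ[A] diagMul f t ∈ Ideal.span (Set.range (diagGen f)) := by
      intro t
      induction t using TensorProduct.induction_on with
      | zero => simp
      | tmul e b =>
        obtain ⟨c, hc, -⟩ := exists_divided_differences f e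
        rw [diagMul_tmul, show e ⊗ₜ[A] b - (1 : MvPolynomial (Fin n) A) ⊗ₜ[A] (Ideal.Quotient.mk _ e * b) =
          (e ⊗ₜ[A] (1 : B') - (1 : MvPolynomial (Fin n) A) ⊗ₜ[A] Ideal.Quotient.mk _ e) *
            ((1 : MvPolynomial (Fin n) A) ⊗ₜ[A] b) by
          simp [sub_mul, Algebra.TensorProduct.tmul_mul_tmul], hc]
        exact Ideal.mul_mem_right _ _ (Ideal.sum_mem _ fun j _ => Ideal.mul_mem_left _ _ (Ideal.subset_span ⟨j, rfl⟩))
      | add s t hs ht =>
        rw [map_add, TensorProduct.tmul_add, add_sub_add_comm]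
        exact add_mem hs ht
    simpa [RingHom.mem_ker.1 ht] using h t

theorem isKoszulRegularSeq_diagGen :
    LCI.IsKoszulRegularSeq (MvPolynomial (Fin n) A ⊗[A] B') (List.ofFn (diagGen f)) := by
  let e : MvPolynomial (Fin n) A ⊗[A] B' ≃+* MvPolynomial (Fin n) B' :=
    ((Algebra.TensorProduct.comm A _ B').toRingEquiv).trans (algebraTensorAlgEquiv A B').toRingEquiv
  have heX : ∀ i, e (X i ⊗ₜ[A] (1 : B')) = X i := fun i => by simp [e]
  have heC : ∀ b, e ((1 : MvPolynomial (Fin n) A) ⊗ₜ[A] b) = C b := fun b => by simp [e, smul_eq_C_mul]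
  let G : Fin n → MvPolynomial (Fin n) B' := fun i => X i - C (Ideal.Quotient.mk _ (X i))
  haveI : Algebra.QuasiFinite B' (MvPolynomial (Fin n) B' ⧸ Ideal.span (Set.range G)) := by
    haveI : Module.Finite B' (MvPolynomial (Fin n) B' ⧸ Ideal.span (Set.range G)) := by
      refine Module.Finite.of_surjective (Algebra.linearMap B' (MvPolynomial (Fin n) B' ⧸ Ideal.span (Set.range G))) ?_
      intro z
      obtain ⟨p, rfl⟩ := Ideal.Quotient.mk_surjective z
      induction p using MvPolynomial.induction_on with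
      | C b => exact ⟨b, rfl⟩
      | add p q hp hq =>
        obtain ⟨u, hu⟩ := hp
        obtain ⟨v, hv⟩ := hq
        exact ⟨u + v, by rw [map_add, hu, hv, map_add]⟩
      | mul_X p i hp =>
        obtain ⟨u, hu⟩ := hp
        refine ⟨u * Ideal.Quotient.mk _ (X i), ?_⟩
        show algebraMap B' _ _ = _
        rw [map_mul, show algebraMap B' (MvPolynomial (Fin n) B' ⧸ Ideal.span (Set.range G)) u = _ from hu, map_mul]
        congr 1
        exact ((Ideal.Quotient.mk_eq_mk_iff_sub_mem _ _).2 (Ideal.subset_span (s := Set.range G) ⟨i, rfl⟩)).symm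
    infer_instance
  have h := Synt29.isKoszulRegularSeq_map_equiv e.symm _ (S9254.result B' n n G (isRelGCI_of_quasiFinite G))
  rw [List.map_ofFn] at h
  convert h using 2
  funext i
  refine e.injective ?_
  show e (diagGen f i) = e (e.symm (G i))
  rw [e.apply_symm_apply, diagGen, map_sub, heX, heC]

theorem exists_generator_annihilator [Algebra.QuasiFinite A B'] :
    ∃ Δ : B' ⊗[A] B', Submodule.annihilator (RingHom.ker (Algebra.TensorProduct.lmul' (S := B') A)) =
        Ideal.span {Δ} ∧
      Algebra.TensorProduct.lmul' (S := B') A Δ = Ideal.Quotient.mk (Ideal.span (Set.range f))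
        (Matrix.of fun i j => pderiv j (f i)).det := by
  classical
  haveI : Module.Flat A B' := (S9147.result A n n f (isRelGCI_of_quasiFinite f)).1
  choose c hc hc' using fun i => exists_divided_differences f (f i)
  have hf0 : ∀ i, Ideal.Quotient.mk (Ideal.span (Set.range f)) (f i) = 0 := fun i =>
    Ideal.Quotient.eq_zero_iff_mem.2 (Ideal.subset_span ⟨i, rfl⟩)
  have hann := S2235.result f (S9254.result A n n f (isRelGCI_of_quasiFinite f)) (diagGen f)
    (isKoszulRegularSeq_diagGen f) (span_diagGen_eq_ker f) (Matrix.of c) fun i => by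
      have := hc i
      rwa [hf0, TensorProduct.tmul_zero, sub_zero] at this
  refine ⟨_, hann, ?_⟩
  have hcomp : ∀ t : MvPolynomial (Fin n) A ⊗[A] B', Algebra.TensorProduct.lmul' (S := B') A
      (Algebra.TensorProduct.map (Ideal.Quotient.mkₐ A (Ideal.span (Set.range f))) (AlgHom.id A B') t) =
      diagMul f t := by
    intro t
    induction t using TensorProduct.induction_on with
    | zero => simp
    | tmul e b => rw [diagMul_tmul]; simp
    | add s t hs ht => rw [map_add, map_add, map_add, hs, ht]
  rw [hcomp, AlgHom.map_det, RingHom.map_det]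
  congr 1
  ext i j
  exact hc' i j

theorem noetherDifferent_eq_span_det [Algebra.QuasiFinite A B'] :
    Disc.noetherDifferent A B' = Ideal.span {Ideal.Quotient.mk (Ideal.span (Set.range f))
      (Matrix.of fun i j => pderiv j (f i)).det} := by
  obtain ⟨Δ, hann, hμ⟩ := exists_generator_annihilator f
  rw [Disc.noetherDifferent, hann, Ideal.map_span, Set.image_singleton, hμ]

end Groth.Agent.DiscLib
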