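import Groth.Agent.DiscLib.SyntomicDifferent

/-!
# The dualizing module of a finite free square presentation
-/

set_option autoImplicit false
set_option maxSynthPendingDepth 3

open TensorProduct MvPolynomial

namespace Groth.Agent.DiscLib

universe u

variable {A : Type u} [CommRing A] [IsNoetherianRing A] {n : ℕ} (f : Fin n → MvPolynomial (Fin n) A)
  [Module.Finite A (MvPolynomial (Fin n) A ⧸ Ideal.span (Set.range f))]
  [Module.Free A (MvPolynomial (Fin n) A ⧸ Ideal.span (Set.range f))]

local notation "B'" => MvPolynomial (Fin n) A ⧸ Ideal.span (Set.range f)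

/-- Scheja–Storch: an isomorphism `ω ≅ B` sending the trace to the Jacobian. -/
theorem exists_linearEquiv_omega :
    ∃ e : Disc.Omega A B' ≃ₗ[B'] B', e (Disc.Omega.trace A B') =
      Ideal.Quotient.mk (Ideal.span (Set.range f)) (Matrix.of fun i j => pderiv j (f i)).det := by
  classical
  have hsyn : Synt.IsSyntomic A B' := S9147.result A n n f (isRelGCI_of_quasiFinite f)
  have hinv := omega_invertible_of_syntomic hsyn
  obtain ⟨Δ, hann, hμ⟩ := exists_generator_annihilator f
  have hΔ : Δ ∈ Submodule.annihilator (RingHom.ker (Algebra.TensorProduct.lmul' (S := B') A)) :=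
    hann.ge (Ideal.mem_span_singleton_self Δ)
  let b := Module.Free.chooseBasis A B'
  let Φ : Disc.Omega A B' →ₗ[B'] B' :=
    { toFun := fun l => DiffLib.ev l Δ
      map_add' := fun l l' => DiffLib.ev_add l l' Δ
      map_smul' := fun c l => by
        rw [DiffLib.ev_smul, (DiffLib.mem_annihilator_iff Δ).mp hΔ c, ← DiffLib.mul_ev]; rfl }
  have hgen : ∀ Φ' : Disc.Omega A B' →ₗ[B'] B', ∃ c : B', ∀ l, Φ' l = c * Φ l := fun Φ' => by
    obtain ⟨t, ht⟩ := Ideal.mem_span_singleton'.1 (hann.le (DiffLib.mkXi_mem b Φ'))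
    refine ⟨Algebra.TensorProduct.lmul' (S := B') A t, fun l => ?_⟩
    have hker : t - (1 : B') ⊗ₜ[A] Algebra.TensorProduct.lmul' (S := B') A t ∈
        RingHom.ker (Algebra.TensorProduct.lmul' (S := B') A) := by
      rw [RingHom.mem_ker, map_sub, Algebra.TensorProduct.lmul'_apply_tmul, one_mul, sub_self]
    have h0 := Submodule.mem_annihilator.1 hΔ _ hker
    rw [smul_eq_mul, mul_sub, sub_eq_zero, mul_comm Δ t, mul_comm Δ] at h0
    rw [← DiffLib.ev_mkXi b Φ' l, ← ht, h0, ← DiffLib.mul_ev]
    rfl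
  have hsurj : Function.Surjective Φ := by
    have hle : ∀ z, contractLeft B' (Disc.Omega A B') z ∈ LinearMap.range Φ := fun z => by
      induction z using TensorProduct.induction_on with
      | zero => simp
      | tmul ψ l =>
        obtain ⟨c, hc⟩ := hgen ψ
        exact ⟨c • l, by rw [map_smul, smul_eq_mul, contractLeft_apply, hc]⟩
      | add s t hs ht => rw [map_add]; exact add_mem hs ht
    intro r
    obtain ⟨z, hz⟩ := (Module.Invertible.bijective (R := B') (M := Disc.Omega A B')).2 r
    exact hz ▸ hle z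
  obtain ⟨l₀, hl₀⟩ := hsurj 1
  have hl : ∀ l, Φ l • l₀ = l := fun l => by rw [DiffLib.apply_smul_comm Φ l l₀, hl₀, one_smul]
  refine ⟨LinearEquiv.ofBijective Φ ⟨fun l l' h => by rw [← hl l, h, hl], hsurj⟩, ?_⟩
  show Φ _ = _
  rw [← hμ, ← DiffLib.lmul_mkXi b Φ]
  exact congrArg _ (DiffLib.eq_mkXi b Δ).symm

end Groth.Agent.DiscLib
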