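import Groth.Agent.DiscLib.KaehlerGCI
import Groth.Agent.DiscLib.NoetherGCI
import Groth.Agent.FittX.Free
import Groth.Agent.S2220
import Groth.Agent.S2217
import Groth.Agent.S9169
import Groth.Agent.DiffLib.Basic
import Groth.Agent.LC.GorLCI
import Groth.Agent.Synt29.FlatLCI
import Mathlib.RingTheory.Etale.Kaehler
import Mathlib.AlgebraicGeometry.OpenImmersion

/-!
# Differents of finite free syntomic algebras
-/

set_option autoImplicit false
set_option maxSynthPendingDepth 3
set_option linter.style.haveILetI false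

open TensorProduct AlgebraicGeometry

namespace Groth.Agent.DiscLib

universe u

/-- The Kähler different commutes with localization. -/
theorem fittingIdeal_kaehler_localization {A B C : Type u} [CommRing A] [CommRing B] [CommRing C] [Algebra A B]
    [Algebra A C] [Algebra B C] [IsScalarTower A B C] [Algebra.FiniteType A B] (M : Submonoid B)
    [IsLocalization M C] (k : ℕ) :
    Fitt.ideal C (KaehlerDifferential A C) k =
      (Fitt.ideal B (KaehlerDifferential A B) k).map (algebraMap B C) := by
  haveI := KaehlerDifferential.isLocalizedModule_map (R := A) (S := B) (T := C) M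
  exact FittX.ideal_baseChange (IsLocalizedModule.isBaseChange M C (KaehlerDifferential.map A A B C)) k

theorem ideal_le_of_locally {B : Type u} [CommRing B] (I J : Ideal B)
    (h : ∀ (q : Ideal B) [q.IsPrime], ∃ (C : Type u) (_ : CommRing C) (_ : Algebra B C) (g : B),
      g ∉ q ∧ IsLocalization.Away g C ∧ I.map (algebraMap B C) ≤ J.map (algebraMap B C)) : I ≤ J := by
  intro a ha
  by_contra hne
  have h1 : (J.colon {a} : Ideal B) ≠ ⊤ := fun htop => hne <| by
    have := (Ideal.eq_top_iff_one _).1 htop
    rw [Submodule.mem_colon_singleton, one_smul] at this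
    exact this
  obtain ⟨m, hm, hle⟩ := Ideal.exists_le_maximal _ h1
  obtain ⟨C, _, _, g, hg, hC, hIJ⟩ := h m
  haveI := hC
  obtain ⟨c, ⟨k, rfl⟩, hc⟩ :=
    (IsLocalization.algebraMap_mem_map_algebraMap_iff (Submonoid.powers g) C J a).1 (hIJ (Ideal.mem_map_of_mem _ ha))
  exact hg (hm.isPrime.mem_of_pow_mem k (hle (by rw [Submodule.mem_colon_singleton, smul_eq_mul]; exact hc)))

variable {A B : Type u} [CommRing A] [CommRing B] [Algebra A B]

/-- Near a point, a finite syntomic algebra has a square presentation. -/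
theorem exists_square_presentation [Module.Finite A B] (h : Synt.IsSyntomic A B) (q : Ideal B) [q.IsPrime] :
    ∃ g : B, g ∉ q ∧ ∃ (n : ℕ) (F : Fin n → MvPolynomial (Fin n) A),
      Algebra.QuasiFinite A (Synt.RelGCIRing A n n F) ∧
        Nonempty (Localization.Away g ≃ₐ[A] Synt.RelGCIRing A n n F) := by
  let p := q.under A
  obtain ⟨Q, hQ, hQq⟩ : ∃ Q : Ideal (p.Fiber B), ∃ _ : Q.IsPrime,
      Q.comap (Algebra.TensorProduct.includeRight.toRingHom) = q := by
    let Q := PrimeSpectrum.preimageEquivFiber A B ⟨p, inferInstance⟩ ⟨⟨q, inferInstance⟩, rfl⟩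
    exact ⟨Q.asIdeal, Q.isPrime,
      congrArg (fun z => z.1.asIdeal) ((PrimeSpectrum.preimageEquivFiber A B ⟨p, inferInstance⟩).symm_apply_apply
        ⟨⟨q, inferInstance⟩, rfl⟩)⟩
  haveI := hQ
  have hone : ∃ g : B, g ∉ q ∧ Synt.IsSyntomic A (Localization.Away g) := by
    haveI := h.2.1
    refine (S9169.result A B p q Q hQq).2.2 ?_
    obtain ⟨g, hg, -⟩ : ∃ g : B, g ∉ q ∧ True :=
      ⟨1, fun h1 => (inferInstance : q.IsPrime).ne_top ((Ideal.eq_top_iff_one _).2 h1), trivial⟩
    haveI := h.1
    refine ⟨g, hg, inferInstance, inferInstance, ?_⟩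
    exact Synt29.isCIOver_atPrime_of_isLCIOver (h.2.2 ⟨p, inferInstance⟩) Q
  obtain ⟨g, hg, n, c, F, hF, ⟨e⟩⟩ := (S9169.result A B p q Q hQq).1.1 hone
  haveI : Algebra.QuasiFinite A (Localization.Away g) := inferInstance
  haveI : Algebra.QuasiFinite A (Synt.RelGCIRing A n c F) := (Algebra.QuasiFinite.iff_of_algEquiv e).1 inferInstance
  have hn : c = n := by
    haveI : Nontrivial (Localization.Away g) := by
      haveI : (q.map (algebraMap B (Localization.Away g))).IsPrime :=
        IsLocalization.isPrime_of_isPrime_disjoint (Submonoid.powers g) _ q ‹_›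
          (Set.disjoint_left.2 fun x ⟨k, hk⟩ hx => hg ((inferInstance : q.IsPrime).mem_of_pow_mem k (show g ^ k ∈ q by rw [show g ^ k = x from hk]; exact hx)))
      exact nontrivial_of_ne 0 1 fun h01 => (‹(q.map _).IsPrime›).ne_top ((Ideal.eq_top_iff_one _).2 (h01 ▸ zero_mem _))
    haveI : Nontrivial (Synt.RelGCIRing A n c F) := e.toEquiv.symm.nontrivial
    obtain ⟨P, hP⟩ := Ideal.exists_maximal (Synt.RelGCIRing A n c F)
    let p' : PrimeSpectrum A := ⟨P.under A, inferInstance⟩
    let Q' := PrimeSpectrum.preimageEquivFiber A (Synt.RelGCIRing A n c F) p' ⟨⟨P, hP.isPrime⟩, rfl⟩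
    haveI : Nontrivial (p'.asIdeal.Fiber (Synt.RelGCIRing A n c F)) :=
      nontrivial_of_ne 0 1 fun h01 => Q'.isPrime.ne_top ((Ideal.eq_top_iff_one _).2 (h01 ▸ zero_mem _))
    obtain ⟨hcn, hdim⟩ := hF p' ‹_›
    haveI : IsArtinianRing (p'.asIdeal.Fiber (Synt.RelGCIRing A n c F)) :=
      IsArtinianRing.of_finite p'.asIdeal.ResidueField _
    have hle : Ring.KrullDimLE 0 (p'.asIdeal.Fiber (Synt.RelGCIRing A n c F)) := inferInstance
    rw [Ring.krullDimLE_iff, hdim] at hle
    have : n - c ≤ 0 := by exact_mod_cast hle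
    omega
  subst hn
  exact ⟨g, hg, c, F, inferInstance, ⟨e⟩⟩

theorem noetherDifferent_eq_fittingIdeal [Module.Finite A B] (h : Synt.IsSyntomic A B) :
    Disc.noetherDifferent A B = Fitt.ideal B (KaehlerDifferential A B) 0 := by
  have key : ∀ (q : Ideal B) [q.IsPrime], ∃ (C : Type u) (_ : CommRing C) (_ : Algebra B C) (g : B),
      g ∉ q ∧ IsLocalization.Away g C ∧ (Disc.noetherDifferent A B).map (algebraMap B C) =
        (Fitt.ideal B (KaehlerDifferential A B) 0).map (algebraMap B C) := by
    intro q _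
    obtain ⟨g, hg, n, F, hqf, ⟨e⟩⟩ := exists_square_presentation h q
    haveI := hqf
    let C := Synt.RelGCIRing A n n F
    letI : Algebra B C := (e.toRingHom.comp (algebraMap B (Localization.Away g))).toAlgebra
    haveI : IsScalarTower A B C := IsScalarTower.of_algebraMap_eq fun a => by
      show algebraMap A C a = e (algebraMap B (Localization.Away g) (algebraMap A B a))
      rw [← IsScalarTower.algebraMap_apply A B (Localization.Away g), e.commutes]
    haveI : IsLocalization.Away g C := IsLocalization.isLocalization_of_algEquiv _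
      ({ e.toRingEquiv with commutes' := fun b => rfl } : Localization.Away g ≃ₐ[B] C)
    refine ⟨C, inferInstance, inferInstance, g, hg, inferInstance, ?_⟩
    rw [← S2220.result (IsOpenImmersion.of_isLocalization (S := C) g),
      ← fittingIdeal_kaehler_localization (A := A) (Submonoid.powers g) 0]
    rw [noetherDifferent_eq_span_det F, fittingIdeal_kaehler_eq A F, det_jacobianMat]
  refine le_antisymm (ideal_le_of_locally _ _ fun q _ => ?_) (ideal_le_of_locally _ _ fun q _ => ?_)
  · obtain ⟨C, i, j, g, hg, hC, he⟩ := key q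
    exact ⟨C, i, j, g, hg, hC, he.le⟩
  · obtain ⟨C, i, j, g, hg, hC, he⟩ := key q
    exact ⟨C, i, j, g, hg, hC, he.ge⟩

variable [IsNoetherianRing A] [Module.Finite A B] [Module.Free A B]

theorem omega_invertible_of_syntomic (h : Synt.IsSyntomic A B) : Module.Invertible B (Disc.Omega A B) := by
  refine S2217.result.1 fun p _ => ?_
  haveI := h.1
  exact LC.gorensteinRing_of_ringEquiv (Algebra.TensorProduct.comm A B p.ResidueField).toRingEquiv
    (LC.gorensteinRing_fibre_of_isLCI A B (Synt29.isLCI_of_isSyntomic h) p)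

theorem differentSet_eq_fittingIdeal (h : Synt.IsSyntomic A B) :
    Disc.differentSet A B = (Fitt.ideal B (KaehlerDifferential A B) 0 : Set B) := by
  classical
  haveI := omega_invertible_of_syntomic h
  rw [← noetherDifferent_eq_fittingIdeal h]
  exact DiffLib.differentSet_eq (Module.Free.chooseBasis A B)

end Groth.Agent.DiscLib
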